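import Groth.Agent.Lib.ArtFun.Obs
import Groth.Agent.Lib.ArtFun.CRing
import Groth.Agent.Lib.H2Alg.PSHom
import Groth.Agent.Lib.AdicSmooth.PowerSeries
import Mathlib.RingTheory.MvPowerSeries.Derivative
import Mathlib.RingTheory.Finiteness.Nilpotent

/-!
# Lifting of derivations and power series rings in characteristic zero
-/

set_option autoImplicit false
set_option backward.isDefEq.respectTransparency false
set_option linter.style.haveILetI false

universe u v

noncomputable section

namespace Groth.Agent.T1Lift3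

open ArtFun MvPowerSeries

variable {k : Type u} [Field k] {n : ℕ}

local notation "PS" => MvPowerSeries (Fin n) k
local notation "mm" => IsLocalRing.maximalIdeal (MvPowerSeries (Fin n) k)

theorem X_mem (i : Fin n) : (MvPowerSeries.X i : PS) ∈ mm := by
  rw [H2Alg.PSHom.maximalIdeal_eq]
  exact Ideal.subset_span ⟨i, rfl⟩

theorem constantCoeff_eq_zero {x : PS} (hx : x ∈ mm) : MvPowerSeries.constantCoeff x = 0 := by
  by_contra h
  exact (IsLocalRing.mem_maximalIdeal _).1 hx (MvPowerSeries.isUnit_iff_constantCoeff.2 (isUnit_iff_ne_zero.2 h))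

/-- A hom with nilpotent values on the variables kills a power of the maximal ideal. -/
theorem exists_pow_kills {E : Type v} [CommRing E] [Algebra k E] (f : PS →ₐ[k] E)
    (hf : ∀ i, IsNilpotent (f (MvPowerSeries.X i))) : ∃ N : ℕ, ∀ x ∈ mm ^ N, f x = 0 := by
  have hfg : (mm).FG := IsNoetherian.noetherian _
  obtain ⟨N, hN⟩ : IsNilpotent ((mm).map f.toRingHom) := by
    rw [Ideal.FG.isNilpotent_iff_le_nilradical (hfg.map _), H2Alg.PSHom.maximalIdeal_eq, H2Alg.PSHom.V, Ideal.map_span,
      Ideal.span_le]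
    rintro _ ⟨_, ⟨i, rfl⟩, rfl⟩
    exact mem_nilradical.2 (hf i)
  refine ⟨N, fun x hx => ?_⟩
  have := Ideal.mem_map_of_mem f.toRingHom hx
  rw [Ideal.map_pow, hN] at this
  exact this

theorem eq_of_forall_X {E : Type v} [CommRing E] [Algebra k E] {f g : PS →ₐ[k] E}
    (hf : ∀ i, IsNilpotent (f (MvPowerSeries.X i)))
    (h : ∀ i, f (MvPowerSeries.X i) = g (MvPowerSeries.X i)) : f = g :=
  AdicSmooth.algHom_eq_of_forall_X X_mem (exists_pow_kills f hf)
    (exists_pow_kills g fun i => h i ▸ hf i) h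

/-- The map `k[[x]] → A ⊕ M` built from a map to `A` and partial derivatives. -/
def jacHom {A M : Type u} [CommRing A] [Algebra k A] [AddCommGroup M] [Module A M] [Module Aᵐᵒᵖ M]
    [IsCentralScalar A M] [Module k M] [IsScalarTower k A M] [IsScalarTower k Aᵐᵒᵖ M]
    (q : PS →ₐ[k] A) (v : Fin n → M) : PS →ₐ[k] TrivSqZeroExt A M :=
  AlgHom.ofLinearMap
    { toFun := fun a => (TrivSqZeroExt.inl (q a) : TrivSqZeroExt A M) +
        TrivSqZeroExt.inr (∑ j, q (MvPowerSeries.pderiv k j a) • v j)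
      map_add' := fun a b => by
        simp only [map_add, add_smul, Finset.sum_add_distrib, TrivSqZeroExt.inl_add, TrivSqZeroExt.inr_add]
        abel
      map_smul' := fun c a => by
        refine TrivSqZeroExt.ext ?_ ?_
        · simp
        · simp [Finset.smul_sum] }
    (by
      refine TrivSqZeroExt.ext ?_ ?_
      · simp
      · simp [MvPowerSeries.pderiv_one])
    (fun a b => by
      refine TrivSqZeroExt.ext ?_ ?_
      · simp
      · simp only [LinearMap.coe_mk, AddHom.coe_mk, TrivSqZeroExt.snd_add, TrivSqZeroExt.snd_inl,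
          TrivSqZeroExt.snd_inr, zero_add, TrivSqZeroExt.snd_mul, TrivSqZeroExt.fst_add, TrivSqZeroExt.fst_inl,
          TrivSqZeroExt.fst_inr, add_zero, op_smul_eq_smul, Derivation.leibniz, map_add, map_mul, smul_eq_mul,
          add_smul, Finset.sum_add_distrib, mul_smul, Finset.smul_sum])

theorem fst_jacHom {A M : Type u} [CommRing A] [Algebra k A] [AddCommGroup M] [Module A M] [Module Aᵐᵒᵖ M]
    [IsCentralScalar A M] [Module k M] [IsScalarTower k A M] [IsScalarTower k Aᵐᵒᵖ M]
    (q : PS →ₐ[k] A) (v : Fin n → M) (a : PS) : (jacHom q v a).fst = q a := by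
  show (TrivSqZeroExt.inl (q a) + TrivSqZeroExt.inr _ : TrivSqZeroExt A M).fst = _
  simp

theorem snd_jacHom {A M : Type u} [CommRing A] [Algebra k A] [AddCommGroup M] [Module A M] [Module Aᵐᵒᵖ M]
    [IsCentralScalar A M] [Module k M] [IsScalarTower k A M] [IsScalarTower k Aᵐᵒᵖ M]
    (q : PS →ₐ[k] A) (v : Fin n → M) (a : PS) :
    (jacHom q v a).snd = ∑ j, q (MvPowerSeries.pderiv k j a) • v j := by
  show (TrivSqZeroExt.inl (q a) + TrivSqZeroExt.inr _ : TrivSqZeroExt A M).snd = _
  simp

theorem pderiv_X_eq (i j : Fin n) :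
    MvPowerSeries.pderiv k j (MvPowerSeries.X i : PS) = if j = i then 1 else 0 := by
  classical
  split_ifs with h
  · subst h
    exact MvPowerSeries.pderiv_X_self
  · exact MvPowerSeries.pderiv_X_of_ne (Ne.symm h)

/-- The lifting property of derivation-like maps. -/
def LiftsExt (R : CRing k k) : Prop :=
  ∀ (A : ArtFun.Art k k) (M M' : Type u) [AddCommGroup M] [Module (↥A) M] [Module (↥A)ᵐᵒᵖ M]
    [IsCentralScalar (↥A) M] [Module k M] [IsScalarTower k (↥A) M] [IsScalarTower k (↥A)ᵐᵒᵖ M]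
    [AddCommGroup M'] [Module (↥A) M'] [Module (↥A)ᵐᵒᵖ M'] [IsCentralScalar (↥A) M'] [Module k M']
    [IsScalarTower k (↥A) M'] [IsScalarTower k (↥A)ᵐᵒᵖ M'] (f : M' →ₗ[↥A] M),
    Function.Surjective f →
      ∀ φ : R.carrier →ₐ[k] TrivSqZeroExt (↥A) M,
        ∃ ψ : R.carrier →ₐ[k] TrivSqZeroExt (↥A) M',
          ∀ r : R.carrier, (ψ r).fst = (φ r).fst ∧ f (ψ r).snd = (φ r).snd

variable {R : CRing k k} (π : MvPowerSeries (Fin n) k →ₐ[k] R.carrier)

theorem map_mem_maximalIdeal (hπ : Function.Surjective π) {x : PS} (hx : x ∈ mm) :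
    π x ∈ IsLocalRing.maximalIdeal R.carrier := by
  rw [← IsLocalRing.map_maximalIdeal_of_surjective (π : PS →+* R.carrier) hπ]
  exact Ideal.mem_map_of_mem _ hx

/-- Under the lifting property the relations are stable under partial derivatives. -/
theorem pderiv_mem_ker (hR : LiftsExt R) (hπ : Function.Surjective π) (hJ : RingHom.ker π ≤ mm ^ 2)
    {f : PS} (hf : π f = 0) (i : Fin n) : π (MvPowerSeries.pderiv k i f) = 0 := by
  classical
  suffices H : ∀ N, π (MvPowerSeries.pderiv k i f) ∈ IsLocalRing.maximalIdeal R.carrier ^ (N + 1) by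
    have : π (MvPowerSeries.pderiv k i f) ∈ (⨅ N, IsLocalRing.maximalIdeal R.carrier ^ N) := by
      rw [Ideal.mem_iInf]
      rintro (_ | N)
      · simp
      · exact H N
    rwa [Ideal.iInf_pow_eq_bot_of_isLocalRing _ (Ideal.IsPrime.ne_top inferInstance), Ideal.mem_bot] at this
  intro N
  let A := R.trunc N
  let q : PS →ₐ[k] A := (R.truncHom N).1.comp π
  have hqJ : ∀ a, π a = 0 → q a = 0 := fun a ha => by
    show (R.truncHom N).1 (π a) = 0
    rw [ha, map_zero]
  let D : PS → (Fin n → A) := fun a j => q (MvPowerSeries.pderiv k j a)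
  let W : Submodule A (Fin n → A) := Submodule.span A (D '' {a | π a = 0})
  let M := (Fin n → A) ⧸ W
  haveI : IsCentralScalar (↥A) M := inferInstance
  haveI : IsScalarTower k (↥A)ᵐᵒᵖ M := inferInstance
  let e : Fin n → M := fun j => Submodule.Quotient.mk (Pi.single j (1 : A))
  have hmk : ∀ a, (∑ j, q (MvPowerSeries.pderiv k j a) • e j) = Submodule.Quotient.mk (D a) := fun a => by
    show ∑ j, q (MvPowerSeries.pderiv k j a) • W.mkQ (Pi.single j (1 : A)) = W.mkQ (D a)
    rw [Finset.sum_congr rfl fun j _ => (map_smul W.mkQ _ _).symm, ← map_sum]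
    refine congrArg W.mkQ (funext fun l => ?_)
    simp [D, Finset.sum_apply, Pi.single_apply]
  let Φ := jacHom q e
  have hΦ : RingHom.ker π ≤ RingHom.ker Φ := fun a ha => by
    refine RingHom.mem_ker.2 (TrivSqZeroExt.ext ?_ ?_)
    · rw [fst_jacHom]; exact hqJ a ha
    · rw [snd_jacHom, hmk]
      exact (Submodule.Quotient.mk_eq_zero W).2 (Submodule.subset_span ⟨a, ha, rfl⟩)
  let eR := Ideal.quotientKerAlgEquivOfSurjective hπ
  let φ : R.carrier →ₐ[k] TrivSqZeroExt (↥A) M :=
    (Ideal.Quotient.liftₐ (RingHom.ker π) Φ fun a ha => hΦ ha).comp eR.symm.toAlgHom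
  have hφ : ∀ a, φ (π a) = Φ a := fun a => by
    show Ideal.Quotient.liftₐ (RingHom.ker π) Φ (fun a ha => hΦ ha) (eR.symm (π a)) = Φ a
    rw [show eR.symm (π a) = Ideal.Quotient.mk _ a from eR.symm_apply_eq.2 rfl]
    rfl
  obtain ⟨ψ, hψ⟩ := hR A M (Fin n → A) W.mkQ W.mkQ_surjective φ
  let Ψ := ψ.comp π
  have hΨ1 : ∀ a, (Ψ a).fst = q a := fun a => (hψ (π a)).1.trans (by rw [hφ, fst_jacHom])
  let v : Fin n → (Fin n → A) := fun j => (Ψ (MvPowerSeries.X j)).snd
  have hmA : ∀ {x : PS}, x ∈ mm → q x ∈ IsLocalRing.maximalIdeal A := fun {x} hx =>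
    ArtFunLib.homSet_mem_max (R.truncHom N) (map_mem_maximalIdeal π hπ hx)
  have hnil : ∀ i, IsNilpotent (Ψ (MvPowerSeries.X i)) := fun i => by
    rw [TrivSqZeroExt.isNilpotent_iff_isNilpotent_fst, hΨ1]
    obtain ⟨M', hM'⟩ := ArtFunLib.isNilpotent_𝔪 A
    exact ⟨M', (Ideal.mem_bot).1 (hM'.le (Ideal.pow_mem_pow (hmA (X_mem i)) M'))⟩
  have hΨ : Ψ = jacHom q v := eq_of_forall_X hnil fun j => by
    refine TrivSqZeroExt.ext (by rw [hΨ1, fst_jacHom]) ?_
    rw [snd_jacHom, Finset.sum_eq_single j (fun l _ hl => by rw [pderiv_X_eq, if_neg hl, map_zero, zero_smul])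
      (fun h => absurd (Finset.mem_univ j) h), pderiv_X_eq, if_pos rfl, map_one, one_smul]
  -- the relation `∑ ∂ⱼ f • vⱼ = 0`
  have h0 : ∑ j, q (MvPowerSeries.pderiv k j f) • v j = 0 := by
    rw [← snd_jacHom q v, ← hΨ]
    show (ψ (π f)).snd = 0
    rw [hf, map_zero]
    rfl
  have hWm : ∀ w ∈ W, ∀ l, w l ∈ IsLocalRing.maximalIdeal A := by
    intro w hw l
    induction hw using Submodule.span_induction with
    | mem x hx =>
      obtain ⟨a, ha, rfl⟩ := hx
      refine hmA ?_
      have h2 := hJ ha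
      rw [pow_two] at h2
      refine Submodule.mul_induction_on h2 (fun b hb c hc => ?_) fun x y hx hy => by rw [map_add]; exact add_mem hx hy
      rw [Derivation.leibniz, smul_eq_mul, smul_eq_mul]
      exact add_mem (Ideal.mul_mem_right _ _ hb) (Ideal.mul_mem_right _ _ hc)
    | zero => exact zero_mem _
    | add x y _ _ hx hy => exact add_mem hx hy
    | smul a x _ hx => exact Ideal.mul_mem_left _ a hx
  have hv : ∀ j, v j - Pi.single j (1 : A) ∈ W := fun j => by
    rw [← Submodule.Quotient.eq]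
    refine (hψ (π (MvPowerSeries.X j))).2.trans ?_
    rw [hφ, snd_jacHom, hmk]
    refine congrArg Submodule.Quotient.mk (funext fun l => ?_)
    show q (MvPowerSeries.pderiv k l (MvPowerSeries.X j)) = _
    rw [pderiv_X_eq, apply_ite q, map_one, map_zero, Pi.single_apply]
  let I : Ideal A := Ideal.span (Set.range fun j => q (MvPowerSeries.pderiv k j f))
  have hI : I ≤ IsLocalRing.maximalIdeal A • I := by
    refine Ideal.span_le.2 (Set.range_subset_iff.2 fun l => ?_)
    have h1 := congrFun h0 l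
    rw [Finset.sum_apply] at h1
    have h2 : q (MvPowerSeries.pderiv k l f) =
        -∑ j, q (MvPowerSeries.pderiv k j f) * (v j - Pi.single j (1 : A) : Fin n → A) l := by
      simp only [Pi.sub_apply, mul_sub, Finset.sum_sub_distrib]
      rw [show (∑ j, q (MvPowerSeries.pderiv k j f) * v j l) = 0 from h1,
        Finset.sum_eq_single l (fun j _ hj => by rw [Pi.single_eq_of_ne (Ne.symm hj), mul_zero])
          (fun h => absurd (Finset.mem_univ l) h), Pi.single_eq_same, mul_one, zero_sub, neg_neg]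
    rw [SetLike.mem_coe, h2, smul_eq_mul]
    refine neg_mem (Ideal.sum_mem _ fun j _ => ?_)
    exact (mul_comm I (IsLocalRing.maximalIdeal A)).le (Ideal.mul_mem_mul (Ideal.subset_span ⟨j, rfl⟩) (hWm _ (hv j) l))
  have hI0 := Submodule.eq_bot_of_le_smul_of_le_jacobson_bot _ I (IsNoetherian.noetherian I) hI
    (IsLocalRing.maximalIdeal_le_jacobson ⊥)
  have hz : q (MvPowerSeries.pderiv k i f) = 0 := (Ideal.mem_bot).1 (hI0.le (Ideal.subset_span ⟨i, rfl⟩))
  exact (ArtFunLib.ker_truncHom R N).le (RingHom.mem_ker.2 hz)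

/-- In characteristic zero the lifting property forces the minimal presentation to be an isomorphism. -/
theorem ker_eq_bot [CharZero k] (hR : LiftsExt R) (hπ : Function.Surjective π) (hJ : RingHom.ker π ≤ mm ^ 2) :
    RingHom.ker π = ⊥ := by
  classical
  suffices H : ∀ (d : ℕ) (e : Fin n →₀ ℕ), e.degree = d → ∀ f, π f = 0 → MvPowerSeries.coeff e f = 0 from
    le_bot_iff.1 fun f hf => (Ideal.mem_bot).2 (MvPowerSeries.ext fun e => by
      rw [map_zero]; exact H _ e rfl f hf)
  intro d
  induction d with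
  | zero =>
    intro e he f hf
    rw [(Finsupp.degree_eq_zero_iff e).1 he, MvPowerSeries.coeff_zero_eq_constantCoeff_apply]
    exact constantCoeff_eq_zero (Ideal.pow_le_self two_ne_zero (hJ hf))
  | succ d ih =>
    intro e he f hf
    obtain ⟨i, hi⟩ : ∃ i, e i ≠ 0 := by
      by_contra hc
      push Not at hc
      rw [show e = 0 from Finsupp.ext hc] at he
      simp at he
    have hle : Finsupp.single i 1 ≤ e := Finsupp.single_le_iff.2 (Nat.one_le_iff_ne_zero.2 hi)
    have hsum : e - Finsupp.single i 1 + Finsupp.single i 1 = e := tsub_add_cancel_of_le hle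
    have hdeg : (e - Finsupp.single i 1).degree = d := by
      have := congrArg Finsupp.degree hsum
      rw [map_add, Finsupp.degree_single] at this
      omega
    have h := ih _ hdeg _ (pderiv_mem_ker π hR hπ hJ hf i)
    rw [MvPowerSeries.coeff_pderiv, hsum, mul_eq_zero] at h
    exact h.resolve_right (Nat.cast_add_one_ne_zero _)

/-- Power series rings have the lifting property. -/
theorem liftsExt_of_algEquiv (e : R.carrier ≃ₐ[k] PS) : LiftsExt R := by
  intro A M M' _ _ _ _ _ _ _ _ _ _ _ _ _ _ f hf φ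
  let φ' : PS →ₐ[k] TrivSqZeroExt (↥A) M := φ.comp e.symm.toAlgHom
  have hnilA : ∀ i, IsNilpotent (φ' (MvPowerSeries.X i)).fst := fun i => by
    set z : A := (φ' (MvPowerSeries.X i)).fst
    have hz : z ∈ IsLocalRing.maximalIdeal A := by
      rw [Art.mem_maximalIdeal_iff]
      by_contra hne
      let g : PS →ₐ[k] k := (A.res.comp (TrivSqZeroExt.fstHom k (↥A) M)).comp φ'
      have hu : IsUnit ((MvPowerSeries.X i : PS) - algebraMap k PS (g (MvPowerSeries.X i))) := by
        rw [MvPowerSeries.isUnit_iff_constantCoeff, map_sub, MvPowerSeries.constantCoeff_X,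
          MvPowerSeries.algebraMap_apply, MvPowerSeries.constantCoeff_C, zero_sub, IsUnit.neg_iff]
        exact isUnit_iff_ne_zero.2 hne
      have := hu.map g
      rw [map_sub, AlgHom.commutes] at this
      simp at this
    obtain ⟨N, hN⟩ := ArtFunLib.isNilpotent_𝔪 A
    exact ⟨N, (Ideal.mem_bot).1 (hN.le (Ideal.pow_mem_pow hz N))⟩
  choose m' hm' using fun i => hf (φ' (MvPowerSeries.X i)).snd
  obtain ⟨G, hG, -⟩ := AdicSmooth.exists_algHom_of_isNilpotent (A := k)
    (fun i => (TrivSqZeroExt.inl (φ' (MvPowerSeries.X i)).fst : TrivSqZeroExt (↥A) M') + TrivSqZeroExt.inr (m' i))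
    fun i => by
      rw [TrivSqZeroExt.isNilpotent_iff_isNilpotent_fst]
      simpa using hnilA i
  let F : TrivSqZeroExt (↥A) M' →ₐ[k] TrivSqZeroExt (↥A) M := (TrivSqZeroExt.map f).restrictScalars k
  have hF : ∀ x, (F x).fst = x.fst ∧ (F x).snd = f x.snd := fun x =>
    ⟨TrivSqZeroExt.fst_map f x, TrivSqZeroExt.snd_map f x⟩
  have key : φ' = F.comp G := eq_of_forall_X
    (fun i => TrivSqZeroExt.isNilpotent_iff_isNilpotent_fst.2 (hnilA i)) fun i => by
      refine TrivSqZeroExt.ext ?_ ?_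
      · show _ = (F (G _)).fst
        rw [(hF _).1, hG]; simp [φ']
      · show _ = (F (G _)).snd
        rw [(hF _).2, hG]; simp [hm', φ']
  refine ⟨G.comp e.toAlgHom, fun r => ?_⟩
  have hr : φ r = F (G (e r)) := by
    rw [← AlgHom.comp_apply F G, ← key]
    exact congrArg φ (e.symm_apply_apply r).symm
  rw [hr]
  exact ⟨(hF _).1.symm, (hF _).2.symm⟩

end Groth.Agent.T1Lift3
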